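import Mathlib
import Groth.Agent.Spec91.Basic

/-!
Connected components along closed surjections with connected fibres and along lifting of clopens.
-/

set_option autoImplicit false

open Topology

namespace Groth.Agent.EtConn51

variable {P Q : Type*} [TopologicalSpace P] [TopologicalSpace Q]

theorem mk_eq_iff {x y : P} :
    ConnectedComponents.mk x = ConnectedComponents.mk y ↔ x ∈ connectedComponent y := by
  rw [ConnectedComponents.coe_eq_coe']

/-- A closed surjection with connected fibres. -/
theorem bijective_of_connected_fibres {r : P → Q} (hc : Continuous r) (hcl : IsClosedMap r)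
    (hs : Function.Surjective r) (hconn : ∀ q, IsConnected (r ⁻¹' {q})) :
    Function.Bijective hc.connectedComponentsMap := by
  constructor
  · intro a b h
    obtain ⟨x, rfl⟩ := ConnectedComponents.surjective_coe a
    obtain ⟨y, rfl⟩ := ConnectedComponents.surjective_coe b
    change ConnectedComponents.mk (r x) = ConnectedComponents.mk (r y) at h
    rw [mk_eq_iff] at h ⊢
    have := Topology.IsCoinducing.isConnected_preimage_of_isClosed hconn
      (hcl.isQuotientMap hc hs).isCoinducing (isClosed_connectedComponent (x := r y))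
      isConnected_connectedComponent
    exact this.subset_connectedComponent (by exact mem_connectedComponent) h
  · intro b
    obtain ⟨q, rfl⟩ := ConnectedComponents.surjective_coe b
    obtain ⟨x, rfl⟩ := hs q
    exact ⟨ConnectedComponents.mk x, rfl⟩

/-- An embedding along which clopens lift uniquely. -/
theorem bijective_of_clopen_lift [CompactSpace P] [QuasiSeparatedSpace P] [PrespectralSpace P]
    [CompactSpace Q] [QuasiSeparatedSpace Q] [PrespectralSpace Q] {i : Q → P} (hi : Continuous i)
    (hlift : ∀ V : Set Q, IsClopen V → ∃ U : Set P, IsClopen U ∧ i ⁻¹' U = V)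
    (hne : ∀ U : Set P, IsClopen U → U.Nonempty → (i ⁻¹' U).Nonempty) :
    Function.Bijective hi.connectedComponentsMap := by
  constructor
  · intro a b h
    obtain ⟨x, rfl⟩ := ConnectedComponents.surjective_coe a
    obtain ⟨y, rfl⟩ := ConnectedComponents.surjective_coe b
    change ConnectedComponents.mk (i x) = ConnectedComponents.mk (i y) at h
    rw [mk_eq_iff] at h ⊢
    by_contra hxy
    obtain ⟨W, hW, hyW, hxW⟩ := Spec91.exists_isClopen_of_not_mem_connectedComponent hxy
    obtain ⟨U, hU, rfl⟩ := hlift W hW
    exact hxW (hU.connectedComponent_subset hyW h)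
  · intro b
    obtain ⟨p, rfl⟩ := ConnectedComponents.surjective_coe b
    haveI : Nonempty { s : Set P // IsClopen s ∧ p ∈ s } := ⟨⟨Set.univ, isClopen_univ, trivial⟩⟩
    have hd : Directed (· ⊇ ·) (fun s : { s : Set P // IsClopen s ∧ p ∈ s } => i ⁻¹' (s : Set P)) :=
      fun s t => ⟨⟨s.1 ∩ t.1, s.2.1.inter t.2.1, s.2.2, t.2.2⟩,
        Set.preimage_mono Set.inter_subset_left, Set.preimage_mono Set.inter_subset_right⟩
    obtain ⟨q, hq⟩ := IsCompact.nonempty_iInter_of_directed_nonempty_isCompact_isClosed _ hd
      (fun s => hne _ s.2.1 ⟨p, s.2.2⟩) (fun s => (s.2.1.isClosed.preimage hi).isCompact)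
      (fun s => s.2.1.isClosed.preimage hi)
    refine ⟨ConnectedComponents.mk q, ?_⟩
    show ConnectedComponents.mk (i q) = ConnectedComponents.mk p
    rw [mk_eq_iff, Spec91.connectedComponent_eq_iInter]
    exact Set.mem_iInter.2 fun s => Set.mem_iInter.1 hq s

end Groth.Agent.EtConn51

namespace Groth.Agent.EtConn51

open Topology

/-- Restricting a closed surjection with connected fibres over an embedded subspace. -/
theorem bijective_of_square {X Y Z W : Type*} [TopologicalSpace X] [TopologicalSpace Y] [TopologicalSpace Z]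
    [TopologicalSpace W] {r : X → Y} {j : Z → X} {i : W → Y} (hr : Continuous r) (hcl : IsClosedMap r)
    (hs : Function.Surjective r) (hconn : ∀ q, IsConnected (r ⁻¹' {q}))
    (hj : IsEmbedding j) (hi : IsEmbedding i) (hrange : Set.range j = r ⁻¹' Set.range i)
    (hbij : Function.Bijective hi.continuous.connectedComponentsMap) :
    Function.Bijective hj.continuous.connectedComponentsMap := by
  have hmem : ∀ z, ∃ w, i w = r (j z) := fun z => hrange.le ⟨z, rfl⟩
  choose s hs' using hmem
  have hsc : Continuous s := hi.isInducing.continuous_iff.2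
    ((hr.comp hj.continuous).congr fun z => (hs' z).symm)
  have hfib : ∀ w, j '' (s ⁻¹' {w}) = r ⁻¹' {i w} := by
    intro w
    ext x
    constructor
    · rintro ⟨z, hz, rfl⟩
      show r (j z) = i w
      rw [← hs', show s z = w from hz]
    · intro hx
      obtain ⟨z, rfl⟩ : x ∈ Set.range j := hrange ▸ ⟨w, hx.symm⟩
      exact ⟨z, hi.injective ((hs' z).trans hx), rfl⟩
  have hscl : IsClosedMap s := by
    intro C hC
    obtain ⟨C', hC', rfl⟩ := hj.isInducing.isClosed_iff.1 hC
    convert (hcl C' hC').preimage hi.continuous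
    ext w
    constructor
    · rintro ⟨z, hz, rfl⟩
      exact ⟨j z, hz, (hs' z).symm⟩
    · rintro ⟨x, hx, hxw⟩
      obtain ⟨z, rfl⟩ : x ∈ Set.range j := hrange ▸ ⟨w, hxw.symm⟩
      exact ⟨z, hx, hi.injective ((hs' z).trans hxw)⟩
  have hss : Function.Surjective s := fun w => by
    obtain ⟨x, hx⟩ := hs (i w)
    obtain ⟨z, hz, -⟩ : x ∈ j '' (s ⁻¹' {w}) := (hfib w).symm ▸ hx
    exact ⟨z, hz⟩
  have hsconn : ∀ w, IsConnected (s ⁻¹' {w}) := fun w => by
    refine ⟨?_, hj.isInducing.isPreconnected_image.1 (hfib w ▸ (hconn (i w)).2)⟩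
    obtain ⟨z, hz⟩ := hss w
    exact ⟨z, hz⟩
  have hR := bijective_of_connected_fibres hr hcl hs hconn
  have hS := bijective_of_connected_fibres hsc hscl hss hsconn
  have hsq : hr.connectedComponentsMap ∘ hj.continuous.connectedComponentsMap =
      hi.continuous.connectedComponentsMap ∘ hsc.connectedComponentsMap := by
    funext a
    obtain ⟨z, rfl⟩ := ConnectedComponents.surjective_coe a
    show ConnectedComponents.mk (r (j z)) = ConnectedComponents.mk (i (s z))
    rw [hs']
  exact (Function.Bijective.of_comp_iff' hR _).1 (hsq ▸ hbij.comp hS)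

end Groth.Agent.EtConn51
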