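import Mathlib
import Groth.Agent.Hensel20.PairApi
import Groth.Agent.EtConn51.Topo

/-!
Clopens of the spectrum of an integral algebra over a henselian pair.
-/

set_option autoImplicit false
universe u

open PrimeSpectrum

namespace Groth.Agent.EtConn51

/-- Components of `Spec (B/IB)` and of `Spec B` agree for `B` integral over a henselian pair. -/
theorem bijective_comap_quotient (A : Type u) [CommRing A] (I : Ideal A) [HenselianRing A I]
    (B : Type u) [CommRing B] [Algebra A B] [Algebra.IsIntegral A B] :
    Function.Bijective (PrimeSpectrum.continuous_comap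
      (Ideal.Quotient.mk (I.map (algebraMap A B)))).connectedComponentsMap := by
  refine bijective_of_clopen_lift _ (fun V hV => ?_) fun U hU hne => ?_
  · obtain ⟨ε, hε, rfl⟩ := PrimeSpectrum.isClopen_iff.1 hV
    obtain ⟨c, hc, hcε⟩ := (Hensel20.idempotents_bijOn (I := I) (B := B)).surjOn hε
    exact ⟨basicOpen c, PrimeSpectrum.isClopen_iff.2 ⟨c, hc, rfl⟩, by
      rw [← hcε]; exact (TopologicalSpace.Opens.coe_inj.2 (comap_basicOpen _ c))⟩
  · obtain ⟨c, hc, rfl⟩ := PrimeSpectrum.isClopen_iff.1 hU
    by_contra h
    rw [Set.not_nonempty_iff_eq_empty] at h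
    have h0 : Ideal.Quotient.mk (I.map (algebraMap A B)) c = 0 := by
      refine (hc.map _).eq_zero_of_isNilpotent ((basicOpen_eq_bot_iff _).1 ?_)
      rw [← comap_basicOpen]
      exact SetLike.coe_injective h
    have hc0 : c = 0 := (Hensel20.idempotents_bijOn (I := I) (B := B)).injOn hc IsIdempotentElem.zero
      (h0.trans (map_zero _).symm)
    subst hc0
    obtain ⟨x, hx⟩ := hne
    simp at hx

end Groth.Agent.EtConn51
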