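import Mathlib
import Groth.Agent.EtConn51.Spec
import Groth.Agent.Stein58.Zariski
import Groth.Agent.Stein58.SteinFactor

/-!
Connected components of a scheme proper over a henselian pair.
-/

set_option autoImplicit false
universe u

open CategoryTheory CategoryTheory.Limits AlgebraicGeometry Topology

namespace Groth.Agent.EtConn51

variable (A : Type u) [CommRing A] (I : Ideal A) [HenselianRing A I] {X : Scheme.{u}}
  (f : X ⟶ Spec (CommRingCat.of A)) [IsProper f]

/-- Any space embedded onto the preimage of `V(I)` has the same connected components as `X`. -/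
theorem bijective_of_range {Z : Type*} [TopologicalSpace Z] {j : Z → X} (hj : IsEmbedding j)
    (hrange : Set.range j = f ⁻¹' PrimeSpectrum.zeroLocus (I : Set A)) :
    Function.Bijective hj.continuous.connectedComponentsMap := by
  let B := Γ(X, ⊤)
  let φ : A →+* B := f.appTop.hom.comp (Scheme.ΓSpecIso (CommRingCat.of A)).inv.hom
  letI : Algebra A B := φ.toAlgebra
  haveI : Algebra.IsIntegral A B := by
    have h1 : f.appTop.hom.IsIntegral :=
      Groth.Agent.Stein58.isIntegral_app f ⟨⊤, isAffineOpen_top _⟩
    refine algebraMap_isIntegral_iff.1 (show φ.IsIntegral from RingHom.IsIntegral.trans _ _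
      (RingHom.isIntegral_of_surjective _
        (ConcreteCategory.bijective_of_isIso (Scheme.ΓSpecIso (CommRingCat.of A)).inv).2) h1)
  haveI : IsProper X.toSpecΓ := Groth.Agent.Stein58.isProper_toSpecΓ f
  haveI : CompactSpace X := QuasiCompact.compactSpace_of_compactSpace f
  haveI : QuasiSeparatedSpace X := quasiSeparatedSpace_of_quasiSeparated f
  haveI : IsIso X.toSpecΓ.appTop := by rw [Scheme.toSpecΓ_appTop]; infer_instance
  haveI hgc : GeometricallyConnected X.toSpecΓ :=
    Groth.Agent.Stein58.geometricallyConnected_of_isIso_appTop' (A := B) X.toSpecΓ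
  have hf : f = X.toSpecΓ ≫ Spec.map (CommRingCat.ofHom φ) := by
    show f = X.toSpecΓ ≫ Spec.map ((Scheme.ΓSpecIso (CommRingCat.of A)).inv ≫ f.appTop)
    rw [Spec.map_comp, ← Category.assoc, ← Scheme.toSpecΓ_naturality, Category.assoc,
      ← SpecMap_ΓSpecIso_hom, ← Spec.map_comp, Iso.inv_hom_id, Spec.map_id, Category.comp_id]
  let J : Ideal B := I.map (algebraMap A B)
  refine bijective_of_square X.toSpecΓ.continuous X.toSpecΓ.isClosedMap
    (fun q => (X.toSpecΓ.isConnected_preimage_singleton q).nonempty)
    (fun q => X.toSpecΓ.isConnected_preimage_singleton q) hj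
    (PrimeSpectrum.isClosedEmbedding_comap_of_surjective _ (Ideal.Quotient.mk J)
      Ideal.Quotient.mk_surjective).isEmbedding ?_
    (bijective_comap_quotient A I B)
  rw [hrange]
  have key : ∀ Q : PrimeSpectrum B,
      PrimeSpectrum.comap φ Q ∈ PrimeSpectrum.zeroLocus (I : Set A) ↔
        Q ∈ Set.range (PrimeSpectrum.comap (Ideal.Quotient.mk J)) := by
    intro Q
    rw [range_comap_of_surjective _ _ Ideal.Quotient.mk_surjective, Ideal.mk_ker,
      PrimeSpectrum.mem_zeroLocus, PrimeSpectrum.mem_zeroLocus, SetLike.coe_subset_coe,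
      SetLike.coe_subset_coe, Ideal.map_le_iff_le_comap]
    exact Iff.rfl
  ext x
  refine Iff.trans ?_ (key (X.toSpecΓ x))
  show f x ∈ PrimeSpectrum.zeroLocus (I : Set A) ↔ _
  rw [hf]
  exact Iff.rfl

/-- The range of the closed fibre of a henselian pair. -/
theorem range_fst :
    Set.range (pullback.fst f (Spec.map (CommRingCat.ofHom (Ideal.Quotient.mk I)))) =
      f ⁻¹' PrimeSpectrum.zeroLocus (I : Set A) := by
  rw [Scheme.Pullback.range_fst]
  congr 1
  show Set.range (PrimeSpectrum.comap (Ideal.Quotient.mk I)) = _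
  rw [range_comap_of_surjective _ _ Ideal.Quotient.mk_surjective, Ideal.mk_ker]

/-- Connected components of `X` and of `X ×_A A/I`. -/
theorem bijective_pullback_fst :
    Function.Bijective
      (pullback.fst f (Spec.map (CommRingCat.ofHom (Ideal.Quotient.mk I)))).continuous.connectedComponentsMap := by
  haveI : IsClosedImmersion (Spec.map (CommRingCat.ofHom (Ideal.Quotient.mk I))) :=
    IsClosedImmersion.spec_of_surjective _ Ideal.Quotient.mk_surjective
  exact bijective_of_range A I f
    (pullback.fst f (Spec.map (CommRingCat.ofHom (Ideal.Quotient.mk I)))).isEmbedding (range_fst A I f)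

theorem connectedSpace_iff_components (T : Type*) [TopologicalSpace T] :
    ConnectedSpace T ↔ Nonempty (ConnectedComponents T) ∧ Subsingleton (ConnectedComponents T) := by
  refine ⟨fun hT => ⟨⟨ConnectedComponents.mk hT.toNonempty.some⟩, ?_⟩, fun ⟨⟨a⟩, hs⟩ => ?_⟩
  · haveI := hT.toPreconnectedSpace
    infer_instance
  · obtain ⟨t, -⟩ := ConnectedComponents.surjective_coe a
    haveI : Nonempty T := ⟨t⟩
    exact connectedSpace_iff_connectedComponent.2 ⟨t, Set.eq_univ_of_forall fun y =>
      mk_eq_iff.1 (Subsingleton.elim _ _)⟩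

/-- A bijection on connected components preserves connectedness. -/
theorem connectedSpace_iff_of_bijective {P Q : Type*} [TopologicalSpace P] [TopologicalSpace Q]
    {i : Q → P} (hi : Continuous i) (h : Function.Bijective hi.connectedComponentsMap) :
    ConnectedSpace P ↔ ConnectedSpace Q := by
  rw [connectedSpace_iff_components, connectedSpace_iff_components]
  exact and_congr ⟨fun ⟨a⟩ => ⟨(h.2 a).choose⟩, fun ⟨b⟩ => ⟨hi.connectedComponentsMap b⟩⟩
    ⟨fun _ => h.1.subsingleton, fun _ => h.2.subsingleton⟩

/-- Closures of points meet the preimage of `V(I)` in connected sets. -/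
theorem isConnected_inter_closure (x : X) :
    IsConnected (f ⁻¹' PrimeSpectrum.zeroLocus (I : Set A) ∩ closure {x}) := by
  let V := Scheme.IdealSheafData.vanishingIdeal (X := X) ⟨closure {x}, isClosed_closure⟩
  let ι := V.subschemeι
  have hι : Set.range ι = closure {x} := by
    rw [Scheme.IdealSheafData.range_subschemeι, Scheme.IdealSheafData.coe_support_vanishingIdeal]; rfl
  haveI : ConnectedSpace V.subscheme := by
    have hc : _root_.IsConnected (ι '' Set.univ) := by
      rw [Set.image_univ, hι]; exact isConnected_singleton.closure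
    refine connectedSpace_iff_univ.2 ⟨?_, ι.isEmbedding.isInducing.isPreconnected_image.1 hc.2⟩
    obtain ⟨z, hz⟩ := hc.1.of_image
    exact ⟨z, hz⟩
  let q := pullback.fst (ι ≫ f) (Spec.map (CommRingCat.ofHom (Ideal.Quotient.mk I)))
  haveI hq : ConnectedSpace ↥(pullback (ι ≫ f) (Spec.map (CommRingCat.ofHom (Ideal.Quotient.mk I)))) :=
    (connectedSpace_iff_of_bijective q.continuous (bijective_pullback_fst A I (ι ≫ f))).1 inferInstance
  have h := isConnected_range (ι.continuous.comp q.continuous)
  rw [Set.range_comp, range_fst A I (ι ≫ f)] at h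
  convert h using 1
  rw [show (⇑(ι ≫ f) ⁻¹' PrimeSpectrum.zeroLocus (I : Set A)) =
    ι ⁻¹' (f ⁻¹' PrimeSpectrum.zeroLocus (I : Set A)) from rfl, Set.image_preimage_eq_inter_range, hι]

end Groth.Agent.EtConn51
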